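import Groth.Prelude.Def_ModSite
import Groth.Agent.ModSiteGro.Basic
import Groth.Agent.QCAlg.Colim
import Mathlib.CategoryTheory.Adjunction.AdjointFunctorTheorems
import Mathlib.CategoryTheory.Sites.CoverLifting

/-!
Pushforward of sheaves of modules along a cocontinuous continuous functor preserves colimits.
-/

set_option backward.isDefEq.respectTransparency false
set_option linter.style.haveILetI false
set_option autoImplicit false
set_option maxHeartbeats 1000000

universe u

open CategoryTheory Category Limits Opposite

namespace Groth.Agent.ModSiteFlat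

variable {C D : Type u} [SmallCategory C] [SmallCategory D] {J : GrothendieckTopology C}
  {K : GrothendieckTopology D} {F : C ⥤ D} [F.IsContinuous J K] [F.IsCocontinuous J K]
  {S : Sheaf J RingCat.{u}} {R : Sheaf K RingCat.{u}}
  (φ : S ⟶ (F.sheafPushforwardContinuous RingCat.{u} J K).obj R)

theorem preservesColimits_pushforward :
    PreservesColimitsOfSize.{u, u} (SheafOfModules.pushforward.{u} φ) := by
  refine ⟨fun {I} _ => ?_⟩
  haveI : PreservesColimitsOfSize.{u, u} (F.sheafPushforwardContinuous AddCommGrpCat.{u} J K) :=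
    (F.sheafAdjunctionCocontinuous AddCommGrpCat.{u} J K).leftAdjoint_preservesColimits
  haveI : PreservesColimitsOfShape I
      (SheafOfModules.pushforward.{u} φ ⋙ SheafOfModules.toSheaf.{u} S) :=
    inferInstanceAs (PreservesColimitsOfShape I
      (SheafOfModules.toSheaf.{u} R ⋙ F.sheafPushforwardContinuous AddCommGrpCat.{u} J K))
  haveI : ReflectsColimitsOfShape I (SheafOfModules.toSheaf.{u} S) :=
    reflectsColimitsOfShape_of_reflectsIsomorphisms
  exact preservesColimitsOfShape_of_reflects_of_preserves
    (SheafOfModules.pushforward.{u} φ) (SheafOfModules.toSheaf.{u} S)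

theorem isLeftAdjoint_pushforward : (SheafOfModules.pushforward.{u} φ).IsLeftAdjoint := by
  haveI : IsGrothendieckAbelian.{u} (SheafOfModules.{u} R) := ModSiteGro.isGrothendieckAbelian R
  haveI : IsGrothendieckAbelian.{u} (SheafOfModules.{u} S) := ModSiteGro.isGrothendieckAbelian S
  haveI := preservesColimits_pushforward φ
  haveI : WellPowered.{u} (SheafOfModules.{u} R)ᵒᵖ := CategoryTheory.Abelian.wellPowered_opposite
  exact isLeftAdjoint_of_preservesColimits_of_isSeparating
    (isSeparator_separator (SheafOfModules.{u} R)) _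

theorem reflectsIsomorphisms_restrictScalars {A B : Sheaf J RingCat.{u}} (α : A ⟶ B) :
    (SheafOfModules.restrictScalars.{u} α).ReflectsIsomorphisms :=
  ⟨fun {M N} f hf => by
    haveI := hf
    haveI : IsIso ((SheafOfModules.toSheaf.{u} B).map f) :=
      inferInstanceAs (IsIso ((SheafOfModules.toSheaf.{u} A).map ((SheafOfModules.restrictScalars.{u} α).map f)))
    exact isIso_of_reflects_iso f (SheafOfModules.toSheaf.{u} B)⟩

lemma preservesLimits_toSheaf (A : Sheaf J RingCat.{u}) :
    PreservesLimitsOfSize.{u, u} (SheafOfModules.toSheaf.{u} A) := by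
  refine ⟨fun {I} _ => ?_⟩
  haveI : PreservesLimitsOfShape I (SheafOfModules.toSheaf.{u} A ⋙ sheafToPresheaf J AddCommGrpCat.{u}) :=
    inferInstanceAs (PreservesLimitsOfShape I
      (SheafOfModules.forget A ⋙ PresheafOfModules.toPresheaf A.obj))
  exact preservesLimitsOfShape_of_reflects_of_preserves
    (SheafOfModules.toSheaf.{u} A) (sheafToPresheaf J AddCommGrpCat.{u})

theorem preservesLimits_restrictScalars {A B : Sheaf J RingCat.{u}} (α : A ⟶ B) :
    PreservesLimitsOfSize.{u, u} (SheafOfModules.restrictScalars.{u} α) := by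
  refine ⟨fun {I} _ => ?_⟩
  haveI := preservesLimits_toSheaf A
  haveI := preservesLimits_toSheaf B
  haveI : PreservesLimitsOfShape I (SheafOfModules.restrictScalars.{u} α ⋙ SheafOfModules.toSheaf.{u} A) :=
    inferInstanceAs (PreservesLimitsOfShape I (SheafOfModules.toSheaf.{u} B))
  haveI : ReflectsLimitsOfShape I (SheafOfModules.toSheaf.{u} A) :=
    reflectsLimitsOfShape_of_reflectsIsomorphisms
  exact preservesLimitsOfShape_of_reflects_of_preserves
    (SheafOfModules.restrictScalars.{u} α) (SheafOfModules.toSheaf.{u} A)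

end Groth.Agent.ModSiteFlat
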