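import Groth.Agent.ModSiteFlat.Criterion
import Groth.Agent.ModSiteFlat.PushColim
import Mathlib.Algebra.Category.ModuleCat.Sheaf.Quasicoherent

/-!
A map from a finitely presented module to a flat module factors locally through a finite free module.
-/

set_option backward.isDefEq.respectTransparency false
set_option linter.style.haveILetI false
set_option autoImplicit false
set_option maxHeartbeats 1000000

universe u

open CategoryTheory Category Limits Opposite

namespace Groth.Agent.ModSiteFlat

variable {C : Type u} [SmallCategory C] {J : GrothendieckTopology C} {O : Sheaf J CommRingCat.{u}}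

attribute [local instance] instModuleSect

section Slice

variable {Z : C} {S : Sheaf (J.over Z) RingCat.{u}}

/-- sections over the slice are values at the terminal object -/
noncomputable def sliceSections (M : SheafOfModules.{u} S) :
    M.sections ≃ M.val.obj (op (Over.mk (𝟙 Z))) where
  toFun s := s.val (op (Over.mk (𝟙 Z)))
  invFun x := ⟨fun V => M.val.map (Over.homMk V.unop.hom : V.unop ⟶ Over.mk (𝟙 Z)).op x, fun {V W} f => by
    change M.val.map f _ = M.val.map _ x
    rw [← PresheafOfModules.map_comp_apply]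
    exact M.val.congr_map_apply (Quiver.Hom.unop_inj (Over.OverMorphism.ext (by simp))) x⟩
  left_inv s := Subtype.ext (funext fun V => s.property (Over.homMk V.unop.hom : V.unop ⟶ Over.mk (𝟙 Z)).op)
  right_inv x := by
    change M.val.presheaf.map (𝟙 (op (Over.mk (𝟙 Z)))) x = x
    rw [CategoryTheory.Functor.map_id]
    rfl

/-- maps out of the unit of a slice -/
noncomputable def homEv (M : SheafOfModules.{u} S) :
    (SheafOfModules.unit S ⟶ M) ≃ M.val.obj (op (Over.mk (𝟙 Z))) :=
  M.unitHomEquiv.trans (sliceSections M)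

lemma homEv_comp {M N : SheafOfModules.{u} S} (f : SheafOfModules.unit S ⟶ M) (g : M ⟶ N) :
    homEv N (f ≫ g) = g.val.app (op (Over.mk (𝟙 Z))) (homEv M f) := rfl

lemma homEv_add {M : SheafOfModules.{u} S} (f g : SheafOfModules.unit S ⟶ M) :
    homEv M (f + g) = homEv M f + homEv M g := rfl

lemma homEv_zero (M : SheafOfModules.{u} S) :
    homEv M (0 : SheafOfModules.unit S ⟶ M) = 0 := rfl

lemma homEv_sum {M : SheafOfModules.{u} S} {κ : Type*} [Fintype κ]
    (f : κ → (SheafOfModules.unit S ⟶ M)) : homEv M (∑ k, f k) = ∑ k, homEv M (f k) :=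
  map_sum (AddMonoidHom.mk' (homEv M) homEv_add) f Finset.univ

/-- the value of an endomorphism-like map out of the unit at a scalar -/
lemma unit_app_smul {M : SheafOfModules.{u} S} (f : SheafOfModules.unit S ⟶ M)
    (r : S.obj.obj (op (Over.mk (𝟙 Z)))) :
    f.val.app (op (Over.mk (𝟙 Z))) r = r • homEv M f := by
  let o : (SheafOfModules.unit S).val.obj (op (Over.mk (𝟙 Z))) :=
    (show S.obj.obj (op (Over.mk (𝟙 Z))) from 1)
  change f.val.app _ r = r • f.val.app _ o
  rw [← map_smul]
  exact congrArg _ (mul_one r).symm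

end Slice

section Free

variable {R : Sheaf J RingCat.{u}} {σ : Type u}

open Classical in
/-- the projections of a free module -/
noncomputable def proj (j : σ) : SheafOfModules.free (R := R) σ ⟶ SheafOfModules.unit R :=
  Cofan.IsColimit.desc (SheafOfModules.isColimitFreeCofan σ) fun i => if i = j then 𝟙 _ else 0

open Classical in
lemma ι_proj (i j : σ) : SheafOfModules.ιFree (R := R) i ≫ proj j = if i = j then 𝟙 _ else 0 := by
  rw [proj, ← SheafOfModules.freeCofan_inj]
  exact Cofan.IsColimit.fac _ _ i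

lemma sum_proj_ι [Fintype σ] : ∑ j : σ, proj (R := R) j ≫ SheafOfModules.ιFree j = 𝟙 _ := by
  classical
  refine Cofan.IsColimit.hom_ext (SheafOfModules.isColimitFreeCofan σ) _ _ fun i => ?_
  simp only [SheafOfModules.freeCofan_inj, Preadditive.comp_sum]
  rw [Finset.sum_eq_single i (fun j _ hj => by rw [← assoc, ι_proj, if_neg (Ne.symm hj), zero_comp]) (by simp),
    ← assoc, ι_proj, if_pos rfl, id_comp]
  exact (comp_id _).symm

end Free

section Generic

variable {D : Type u} [SmallCategory D] {K : GrothendieckTopology D} {R : Sheaf K RingCat.{u}}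

/-- maps out of the cokernel of a map of finite free modules, after an additive colimit preserving functor -/
lemma exists_desc {A : Type*} [Category A] [Preadditive A] (G : SheafOfModules.{u} R ⥤ A)
    [G.Additive] [PreservesColimitsOfSize.{u, u} G] [PreservesColimitsOfSize.{0, 0} G]
    {ι σ : Type u} [Fintype σ] (f : SheafOfModules.free (R := R) ι ⟶ SheafOfModules.free σ)
    {M : SheafOfModules.{u} R} (g : SheafOfModules.free σ ⟶ M) (w : f ≫ g = 0)
    (hc : IsColimit (CokernelCofork.ofπ g w)) {X : A} (c : σ → (G.obj (SheafOfModules.unit R) ⟶ X))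
    (h : ∀ e, ∑ j, G.map (SheafOfModules.ιFree e ≫ f ≫ proj j) ≫ c j = 0) :
    (∃ a : G.obj M ⟶ X, ∀ j, G.map (SheafOfModules.ιFree j ≫ g) ≫ a = c j) ∧
      ∀ {Y : A} (x y : G.obj M ⟶ Y),
        (∀ j, G.map (SheafOfModules.ιFree j ≫ g) ≫ x = G.map (SheafOfModules.ιFree j ≫ g) ≫ y) → x = y := by
  classical
  let m : G.obj (SheafOfModules.free σ) ⟶ X := ∑ j, G.map (proj j) ≫ c j
  have hm : ∀ j, G.map (SheafOfModules.ιFree j) ≫ m = c j := fun j => by
    simp only [m, Preadditive.comp_sum, ← Functor.map_comp_assoc, ι_proj]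
    rw [Finset.sum_eq_single j (fun i _ hi => by rw [if_neg (Ne.symm hi), Functor.map_zero, zero_comp]) (by simp),
      if_pos rfl, G.map_id, id_comp]
  have hf : G.map f ≫ m = 0 := by
    refine (isColimitOfPreserves G (SheafOfModules.isColimitFreeCofan _)).hom_ext fun e => ?_
    change G.map (SheafOfModules.ιFree e.as) ≫ G.map f ≫ m = G.map (SheafOfModules.ιFree e.as) ≫ 0
    rw [comp_zero, ← h e.as]
    simp only [m, Preadditive.comp_sum, ← Functor.map_comp_assoc, assoc]
  let hcG := CokernelCofork.mapIsColimit _ hc G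
  obtain ⟨a, ha⟩ := CokernelCofork.IsColimit.desc' hcG m hf
  refine ⟨⟨a, fun j => ?_⟩, fun {Y} x y hxy => ?_⟩
  · rw [G.map_comp, assoc]
    exact (congrArg (fun z => G.map (SheafOfModules.ιFree j) ≫ z) ha).trans (hm j)
  · haveI : Epi g := Limits.epi_of_isColimit_cofork hc
    haveI : Epi (G.map g) := G.map_epi g
    rw [← cancel_epi (G.map g)]
    refine (isColimitOfPreserves G (SheafOfModules.isColimitFreeCofan _)).hom_ext fun j => ?_
    change G.map (SheafOfModules.ιFree j.as) ≫ G.map g ≫ x = G.map (SheafOfModules.ιFree j.as) ≫ G.map g ≫ y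
    rw [← Functor.map_comp_assoc, ← Functor.map_comp_assoc]
    exact hxy j.as

variable {W : D} {S : Sheaf (K.over W) RingCat.{u}}

/-- relations between the values of generators -/
lemma sum_coeff_smul {ι σ : Type u} [Fintype σ] (f : SheafOfModules.free (R := S) ι ⟶ SheafOfModules.free σ)
    {M : SheafOfModules.{u} S} (ψ : SheafOfModules.free σ ⟶ M) (w : f ≫ ψ = 0) (e : ι) :
    ∑ j, (show S.obj.obj (op (Over.mk (𝟙 W))) from
        homEv (SheafOfModules.unit S) (SheafOfModules.ιFree e ≫ f ≫ proj j)) •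
      homEv M (SheafOfModules.ιFree j ≫ ψ) = 0 := by
  have h1 : SheafOfModules.ιFree e ≫ f ≫ ψ =
      ∑ j, (SheafOfModules.ιFree e ≫ f ≫ proj j) ≫ SheafOfModules.ιFree j ≫ ψ := by
    conv_lhs => rw [← id_comp ψ, ← sum_proj_ι]
    simp only [Preadditive.sum_comp, Preadditive.comp_sum, assoc]
  have h2 := congrArg (homEv M) h1
  rw [w, comp_zero, homEv_zero, homEv_sum] at h2
  refine Eq.trans ?_ h2.symm
  exact Finset.sum_congr rfl fun j _ => ((homEv_comp _ _).trans (unit_app_smul _ _)).symm

/-- restricting a map out of the unit -/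
lemma homEv_overMap {R : Sheaf K RingCat.{u}} {W Z : D} (m : Z ⟶ W) {M : SheafOfModules.{u} (R.over W)}
    (u : SheafOfModules.unit (R.over W) ⟶ M) :
    homEv ((SheafOfModules.overMap.{u} R m).obj M) ((SheafOfModules.overMap.{u} R m).map u) =
      M.val.map (Over.homMk ((Over.map m).obj (Over.mk (𝟙 Z))).hom :
        (Over.map m).obj (Over.mk (𝟙 Z)) ⟶ Over.mk (𝟙 W)).op (homEv M u) :=
  ((M.unitHomEquiv u).property (Over.homMk ((Over.map m).obj (Over.mk (𝟙 Z))).hom :
    (Over.map m).obj (Over.mk (𝟙 Z)) ⟶ Over.mk (𝟙 W)).op).symm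

/-- the value of a restricted map followed by a restricted morphism -/
lemma homEv_overMap_comp {R : Sheaf K RingCat.{u}} {W Z : D} (m : Z ⟶ W) {F H : SheafOfModules.{u} R}
    (φ : F ⟶ H) (u : SheafOfModules.unit (R.over W) ⟶ F.over W) :
    homEv (H.over Z) ((show SheafOfModules.unit (R.over Z) ⟶ F.over Z from
        (SheafOfModules.overMap.{u} R m).map u) ≫ φ.over Z) =
      H.val.map m.op (homEv (H.over W) (u ≫ φ.over W)) := by
  refine (homEv_comp (M := F.over Z) _ _).trans ?_
  refine (congrArg (φ.val.app (op Z)) (homEv_overMap m u)).trans ?_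
  refine (PresheafOfModules.naturality_apply φ.val (𝟙 Z ≫ m).op (homEv (F.over W) u)).trans ?_
  rw [id_comp]
  rfl

/-- a presentation is a cokernel diagram of free modules -/
lemma exists_cokernel_data {M : SheafOfModules.{u} S} (p : M.Presentation) :
    ∃ (f : SheafOfModules.free (R := S) p.relations.I ⟶ SheafOfModules.free p.generators.I)
      (w : f ≫ p.generators.π = 0), Nonempty (IsColimit (CokernelCofork.ofπ p.generators.π w)) :=
  ⟨_, _, ⟨p.isColimit⟩⟩

end Generic

variable (O)

/-- scalars: coefficient of a map of free modules over `W` -/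
noncomputable def coeff {W : C} {ι σ : Type u} (f : SheafOfModules.free (R := (ModSite.ringSh O).over W) ι ⟶
    SheafOfModules.free σ) (e : ι) (j : σ) : O.obj.obj (op W) :=
  homEv (SheafOfModules.unit ((ModSite.ringSh O).over W)) (SheafOfModules.ιFree e ≫ f ≫ proj j)

/-- the value of a map out of a free module over `W` at a generator -/
noncomputable def genVal {W : C} {σ : Type u} (H : ModSite.Mod O)
    (ψ : SheafOfModules.free (R := (ModSite.ringSh O).over W) σ ⟶ (ModSite.restr O W).obj H) (j : σ) :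
    ModSite.sect H W :=
  homEv (S := (ModSite.ringSh O).over W) ((ModSite.restr O W).obj H) (SheafOfModules.ιFree j ≫ ψ)

/-- factorisation over one arrow solving the relations -/
lemma factor_of_solution (F H : ModSite.Mod O) (φ : F ⟶ H) {W Z : C} (m : Z ⟶ W) {ι σ : Type u} [Fintype σ]
    (f : SheafOfModules.free (R := (ModSite.ringSh O).over W) ι ⟶ SheafOfModules.free σ)
    (g₀ : SheafOfModules.free σ ⟶ (ModSite.restr O W).obj F) (w : f ≫ g₀ = 0)
    (hc : IsColimit (CokernelCofork.ofπ g₀ w)) (r : ℕ) (t : Fin r → ModSite.sect H Z)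
    (c : σ → Fin r → O.obj.obj (op Z))
    (ht : ∀ j, rmap H m (genVal O H (g₀ ≫ (ModSite.restr O W).map φ) j) = ∑ l, c j l • t l)
    (h0 : ∀ e l, ∑ j, (O.obj.map m.op).hom (coeff O f e j) * c j l = 0) :
    ∃ (a : (ModSite.restr O Z).obj F ⟶ SheafOfModules.free (ULift.{u} (Fin r)))
      (b : SheafOfModules.free (ULift.{u} (Fin r)) ⟶ (ModSite.restr O Z).obj H),
        a ≫ b = (ModSite.restr O Z).map φ := by
  classical
  let R := ModSite.ringSh O
  let OM := SheafOfModules.overMap.{u} R m
  haveI : PreservesColimitsOfSize.{u, u} OM := preservesColimits_pushforward (F := Over.map m) _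
  haveI : PreservesColimitsOfSize.{0, 0} OM := preservesSmallestColimits_of_preservesColimits _
  haveI : OM.Additive := { map_add := rfl }
  let T : (Over Z)ᵒᵖ := op (Over.mk (𝟙 Z))
  let fr : SheafOfModules.{u} (R.over Z) := SheafOfModules.free (ULift.{u} (Fin r))
  let Hz : SheafOfModules.{u} (R.over Z) := (ModSite.restr O Z).obj H
  let el : Fin r → fr.val.obj T := fun l => homEv fr (SheafOfModules.ιFree (ULift.up l))
  let cz : σ → Fin r → (R.over Z).obj.obj T := fun j l => c j l
  let wj : σ → (SheafOfModules.unit (R.over Z) ⟶ fr) := fun j => (homEv fr).symm (∑ l, cz j l • el l)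
  let b : fr ⟶ Hz := Cofan.IsColimit.desc (SheafOfModules.isColimitFreeCofan _)
    fun l => (homEv Hz).symm (t l.down)
  have hb : ∀ l, b.val.app T (el l) = t l := fun l => by
    refine (homEv_comp _ b).symm.trans ?_
    have : SheafOfModules.ιFree (ULift.up l) ≫ b = (homEv Hz).symm (t l) :=
      Cofan.IsColimit.fac _ _ (ULift.up.{u} l)
    rw [this, Equiv.apply_symm_apply]
  have hcoef : ∀ e j, (show (R.over Z).obj.obj T from
      homEv (SheafOfModules.unit (R.over Z)) (OM.map (SheafOfModules.ιFree e ≫ f ≫ proj j))) =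
        (O.obj.map m.op).hom (coeff O f e j) := fun e j => by
    refine (homEv_overMap m _).trans ?_
    change (O.obj.map ((𝟙 Z) ≫ m).op).hom (coeff O f e j) = _
    rw [id_comp]
  obtain ⟨⟨a, ha⟩, huniq⟩ := exists_desc OM f g₀ w hc (fun j => wj j) fun e => by
    apply (homEv fr).injective
    have hterm : ∀ j, homEv fr (OM.map (SheafOfModules.ιFree e ≫ f ≫ proj j) ≫ wj j) =
        ∑ l, (show (R.over Z).obj.obj T from (O.obj.map m.op).hom (coeff O f e j)) • cz j l • el l := fun j => by
      refine (homEv_comp (M := SheafOfModules.unit (R.over Z)) _ (wj j)).trans ?_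
      refine (unit_app_smul (wj j) _).trans ?_
      refine Eq.trans (congrArg₂ (· • ·) (hcoef e j) (Equiv.apply_symm_apply (homEv fr) _)) ?_
      exact Finset.smul_sum
    refine (homEv_sum _).trans ?_
    refine Eq.trans (Finset.sum_congr rfl fun j _ => hterm j) ?_
    rw [Finset.sum_comm]
    refine (Finset.sum_eq_zero fun l _ => ?_).trans (homEv_zero fr).symm
    simp only [smul_smul, ← Finset.sum_smul]
    have : ∑ j, (show (R.over Z).obj.obj T from (O.obj.map m.op).hom (coeff O f e j)) * cz j l = 0 := h0 e l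
    rw [this, zero_smul]
  refine ⟨a, b, huniq (a ≫ b) ((ModSite.restr O Z).map φ) fun j => ?_⟩
  apply (homEv Hz).injective
  have lhs : homEv Hz (OM.map (SheafOfModules.ιFree j ≫ g₀) ≫ a ≫ b) = ∑ l, c j l • t l := by
    refine (congrArg (homEv Hz) ((assoc _ _ _).symm.trans (congrArg (· ≫ b) (ha j)))).trans ?_
    refine (homEv_comp (wj j) b).trans ?_
    refine (congrArg (b.val.app T) (Equiv.apply_symm_apply (homEv fr) _)).trans ?_
    refine (map_sum (b.val.app T).hom _ _).trans (Finset.sum_congr rfl fun l _ => ?_)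
    exact ((b.val.app T).hom.map_smul _ _).trans (congrArg _ (hb l))
  have rhs := homEv_overMap_comp (R := R) m φ (SheafOfModules.ιFree j ≫ g₀)
  refine lhs.trans ((ht j).symm.trans (Eq.trans ?_ rhs.symm))
  rw [genVal, assoc]
  rfl

/-- restricting and reindexing a relation -/
lemma rel_restrict (H : ModSite.Mod O) {U V : C} (k : V ⟶ U) {σ : Type u} [Fintype σ] {n : ℕ}
    (eσ : σ ≃ Fin n) (A : σ → O.obj.obj (op U)) (s : σ → ModSite.sect H U) (h : ∑ j, A j • s j = 0) :
    ∑ l, (O.obj.map k.op).hom (A (eσ.symm l)) • rmap H k (s (eσ.symm l)) = 0 :=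
  (Fintype.sum_equiv eσ.symm _ (fun j => (O.obj.map k.op).hom (A j) • rmap H k (s j)) fun _ => rfl).trans
    ((rmap_sum_smul H k A s).symm.trans ((congrArg (rmap H k) h).trans (map_zero (rmap H k))))

/-- local factorisation through a finite free module -/
theorem exists_local_factorisation (F H : ModSite.Mod O) [F.IsFinitePresentation] (hH : ModSite.IsFlat H)
    (φ : F ⟶ H) (X : C) :
    ∃ (ι : Type u) (Y : ι → C) (g : ∀ i, Y i ⟶ X), Sieve.ofArrows Y g ∈ J X ∧
      ∀ i, ∃ (n : ℕ) (a : (ModSite.restr O (Y i)).obj F ⟶ SheafOfModules.free (ULift.{u} (Fin n)))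
        (b : SheafOfModules.free (ULift.{u} (Fin n)) ⟶ (ModSite.restr O (Y i)).obj H),
          a ≫ b = (ModSite.restr O (Y i)).map φ := by
  obtain ⟨q, hq⟩ := SheafOfModules.IsFinitePresentation.exists_quasicoherentData F
  let Good : ∀ ⦃Y : C⦄, (Y ⟶ X) → Prop := fun Y _ =>
    ∃ (n : ℕ) (a : (ModSite.restr O Y).obj F ⟶ SheafOfModules.free (ULift.{u} (Fin n)))
      (b : SheafOfModules.free (ULift.{u} (Fin n)) ⟶ (ModSite.restr O Y).obj H),
        a ≫ b = (ModSite.restr O Y).map φ
  suffices hcov : ∀ (i : q.I) (Y : C) (k : Y ⟶ q.X i), ∃ S ∈ J Y, ∀ ⦃Z : C⦄ (g : Z ⟶ Y), S g →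
      ∃ (n : ℕ) (a : (ModSite.restr O Z).obj F ⟶ SheafOfModules.free (ULift.{u} (Fin n)))
        (b : SheafOfModules.free (ULift.{u} (Fin n)) ⟶ (ModSite.restr O Z).obj H),
          a ≫ b = (ModSite.restr O Z).map φ by
    choose S hS hS' using hcov
    let ι := Σ Z : C, {g : Z ⟶ X // Good g}
    refine ⟨ι, fun i => i.1, fun i => i.2.1, ?_, fun i => i.2.2⟩
    refine J.transitive (q.coversTop X) _ fun Y g hg => ?_
    obtain ⟨i, ⟨k⟩⟩ := (Sieve.mem_ofObjects_iff ..).mp hg
    refine J.superset_covering (fun Z h hh => ?_) (hS i Y k)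
    exact ⟨Z, 𝟙 Z, h ≫ g, Presieve.ofArrows.mk (⟨Z, h ≫ g, hS' i Y k h hh⟩ : ι), id_comp _⟩
  intro i Y k
  haveI := hq.isFinite_presentation i
  let p := q.presentation i
  haveI : Finite p.generators.I := SheafOfModules.GeneratingSections.IsFiniteType.finite
  haveI : Finite p.relations.I := SheafOfModules.GeneratingSections.IsFiniteType.finite
  cases nonempty_fintype p.generators.I
  cases nonempty_fintype p.relations.I
  let σ := p.generators.I
  obtain ⟨f, hw, ⟨hcok⟩⟩ := exists_cokernel_data p
  let ψ : SheafOfModules.free (R := (ModSite.ringSh O).over (q.X i)) σ ⟶ (ModSite.restr O (q.X i)).obj H :=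
    p.generators.π ≫ (ModSite.restr O (q.X i)).map φ
  have hψ : f ≫ ψ = 0 := (assoc _ _ _).symm.trans ((congrArg (· ≫ _) hw).trans zero_comp)
  have hrel : ∀ e, ∑ j, coeff O f e j • genVal O H ψ j = 0 := sum_coeff_smul f ψ hψ
  let eσ := Fintype.equivFin σ
  let yY : Fin (Fintype.card σ) → ModSite.sect H Y := fun l => rmap H k (genVal O H ψ (eσ.symm l))
  let BY : p.relations.I → Fin (Fintype.card σ) → O.obj.obj (op Y) :=
    fun e l => (O.obj.map k.op).hom (coeff O f e (eσ.symm l))
  have hBY : ∀ e ∈ (Finset.univ : Finset p.relations.I), ∑ l, BY e l • yY l = 0 := fun e _ =>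
    rel_restrict O H k eσ (coeff O f e) (genVal O H ψ) (hrel e)
  obtain ⟨S, hS, hsol⟩ := exists_cover_solution (hasLocalTriv_of_isFlat hH) yY Finset.univ BY hBY
  refine ⟨S, hS, fun Z g hg => ?_⟩
  obtain ⟨r, t, c, ht, hc⟩ := hsol g hg
  refine ⟨r, factor_of_solution O F H φ (g ≫ k) f p.generators.π hw hcok r t (fun j => c (eσ j))
    (fun j => ?_) fun e l => ?_⟩
  · refine (rmap_comp H k g _).trans ?_
    have := ht (eσ j)
    simp only [yY, Equiv.symm_apply_apply] at this
    exact this
  · refine Eq.trans ?_ (hc e (Finset.mem_univ e) l)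
    refine Fintype.sum_equiv eσ _ _ fun j => ?_
    simp only [BY, Equiv.symm_apply_apply]
    exact congrArg (fun z => z * c (eσ j) l) (ConcreteCategory.congr_hom (O.obj.map_comp k.op g.op) _)

end Groth.Agent.ModSiteFlat
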