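import Groth.Agent.ModSiteExt.Consequences
import Mathlib.LinearAlgebra.TensorProduct.Vanishing
import Mathlib.LinearAlgebra.DirectSum.Finsupp
import Mathlib.LinearAlgebra.TensorProduct.RightExactness
import Mathlib.LinearAlgebra.TensorProduct.Finiteness

/-!
Local equational criterion of flatness for sheaves of modules on a site.
-/

set_option backward.isDefEq.respectTransparency false
set_option linter.style.haveILetI false
set_option autoImplicit false
set_option maxHeartbeats 1000000

universe u

open CategoryTheory Category Limits Opposite MonoidalCategory TensorProduct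

namespace Groth.Agent.ModSiteFlat

variable {C : Type u} [SmallCategory C] {J : GrothendieckTopology C} (O : Sheaf J CommRingCat.{u})

local instance instModuleSect (F : ModSite.Mod O) (U : C) :
    Module (O.obj.obj (op U) : Type u) (ModSite.sect F U) := (F.val.obj (op U)).isModule

/-- every relation is locally trivial -/
def HasLocalTriv (F : ModSite.Mod O) : Prop :=
  ∀ (U : C) (n : ℕ) (f : Fin n → O.obj.obj (op U)) (s : Fin n → ModSite.sect F U), ∑ j, f j • s j = 0 →
    ∃ S ∈ J U, ∀ ⦃V : C⦄ (g : V ⟶ U), S g → ∃ (l : ℕ) (t : Fin l → ModSite.sect F V)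
      (a : Fin n → Fin l → O.obj.obj (op V)),
      (∀ j, (F.val.map g.op).hom (s j) = ∑ k, a j k • t k) ∧
        (∀ k, ∑ j, a j k * (O.obj.map g.op).hom (f j) = 0)

variable {O} (F : ModSite.Mod O)

/-- restriction of sections as an additive map -/
noncomputable def rmap {U V : C} (g : V ⟶ U) : ModSite.sect F U →+ ModSite.sect F V :=
  (F.val.presheaf.map g.op).hom

lemma rmap_smul {U V : C} (g : V ⟶ U) (r : O.obj.obj (op U)) (x : ModSite.sect F U) :
    rmap F g (r • x) = (O.obj.map g.op).hom r • rmap F g x :=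
  F.val.map_smul g.op r x

lemma rmap_sum_smul {U V : C} (g : V ⟶ U) {κ : Type*} [Fintype κ] (a : κ → O.obj.obj (op U))
    (t : κ → ModSite.sect F U) :
    rmap F g (∑ k, a k • t k) = ∑ k, (O.obj.map g.op).hom (a k) • rmap F g (t k) := by
  rw [map_sum]
  exact Finset.sum_congr rfl fun k _ => rmap_smul F g _ _

lemma rmap_comp {U V W : C} (g : V ⟶ U) (h : W ⟶ V) (x : ModSite.sect F U) :
    rmap F (h ≫ g) x = rmap F h (rmap F g x) :=
  ConcreteCategory.congr_hom (F.val.presheaf.map_comp g.op h.op) x

variable {F}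

/-- finitely many relations are simultaneously locally trivial -/
lemma exists_cover_solution (hF : HasLocalTriv O F) {U : C} {κ : Type} [Fintype κ] (y : κ → ModSite.sect F U)
    {ε : Type*} (T : Finset ε) (B : ε → κ → O.obj.obj (op U))
    (hB : ∀ e ∈ T, ∑ j, B e j • y j = 0) :
    ∃ S ∈ J U, ∀ ⦃V : C⦄ (g : V ⟶ U), S g → ∃ (r : ℕ) (t : Fin r → ModSite.sect F V)
      (c : κ → Fin r → O.obj.obj (op V)),
      (∀ j, rmap F g (y j) = ∑ l, c j l • t l) ∧
        (∀ e ∈ T, ∀ l, ∑ j, (O.obj.map g.op).hom (B e j) * c j l = 0) := by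
  classical
  induction T using Finset.induction with
  | empty =>
    refine ⟨⊤, J.top_mem U, fun V g _ => ⟨Fintype.card κ, fun l => rmap F g (y ((Fintype.equivFin κ).symm l)),
      fun j l => if Fintype.equivFin κ j = l then 1 else 0, fun j => ?_, fun e he => absurd he (by simp)⟩⟩
    rw [Finset.sum_eq_single (Fintype.equivFin κ j) (fun l _ hl => by simp [Ne.symm hl]) (by simp)]
    simp
  | insert e T he ih =>
    obtain ⟨S₁, hS₁, h₁⟩ := ih fun e' he' => hB e' (Finset.mem_insert_of_mem he')
    choose r t c ht hc using h₁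
    have hrel : ∀ ⦃V : C⦄ (g : V ⟶ U) (hg : S₁ g),
        ∑ l, (∑ j, (O.obj.map g.op).hom (B e j) * c g hg j l) • t g hg l = 0 := fun V g hg => by
      have h0 := congrArg (rmap F g) (hB e (Finset.mem_insert_self e T))
      rw [rmap_sum_smul, map_zero] at h0
      refine Eq.trans ?_ h0
      simp only [ht g hg, Finset.smul_sum, smul_smul, Finset.sum_smul]
      exact Finset.sum_comm
    choose S₂ hS₂ h₂ using fun (V : C) (g : V ⟶ U) (hg : S₁ g) => hF V (r g hg)
      (fun l => ∑ j, (O.obj.map g.op).hom (B e j) * c g hg j l) (t g hg) (hrel g hg)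
    refine ⟨Sieve.bind S₁ fun V g hg => S₂ V g hg, J.bind_covering hS₁ fun V g hg => hS₂ V g hg, ?_⟩
    rintro W _ ⟨V, h, g, hg, hh, rfl⟩
    obtain ⟨l', t', a, ha, ha0⟩ := h₂ V g hg h hh
    have hmap : ∀ x, (O.obj.map (h ≫ g).op).hom x = (O.obj.map h.op).hom ((O.obj.map g.op).hom x) :=
      fun x => ConcreteCategory.congr_hom (O.obj.map_comp g.op h.op) x
    refine ⟨l', t', fun j k => ∑ l, (O.obj.map h.op).hom (c g hg j l) * a l k, fun j => ?_, fun e' he' k => ?_⟩
    · rw [rmap_comp, ht g hg j, rmap_sum_smul]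
      refine (Finset.sum_congr rfl fun l _ => congrArg (fun z => (O.obj.map h.op).hom (c g hg j l) • z) (ha l)).trans ?_
      simp only [Finset.smul_sum, smul_smul, Finset.sum_smul]
      exact Finset.sum_comm
    · have key : ∑ j, (O.obj.map (h ≫ g).op).hom (B e' j) * ∑ l, (O.obj.map h.op).hom (c g hg j l) * a l k =
          ∑ l, (O.obj.map h.op).hom (∑ j, (O.obj.map g.op).hom (B e' j) * c g hg j l) * a l k := by
        simp only [hmap, Finset.mul_sum, map_sum, Finset.sum_mul, map_mul, mul_assoc]
        exact Finset.sum_comm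
      refine key.trans ?_
      rcases Finset.mem_insert.mp he' with rfl | he''
      · simpa [mul_comm] using ha0 k
      · exact Finset.sum_eq_zero fun l _ => by rw [hc g hg e' he'' l, map_zero, zero_mul]

/-- tensoring with a flat module keeps monomorphisms of presheaves locally injective -/
lemma isLocallyInjective_whiskerRight_of_isFlat (hF : ModSite.IsFlat F)
    {P Q : ModSiteExt.PM O.obj} (φ : P ⟶ Q) [Mono φ] :
    Presheaf.IsLocallyInjective J ((PresheafOfModules.toPresheaf _).map
      (MonoidalCategory.whiskerRight (C := ModSiteExt.PM O.obj) φ ((ModSiteExt.toPM O).obj F))) := by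
  haveI := hF.1
  let F₀ := (ModSiteExt.toPM O).obj F
  let L := ModSiteExt.Sh O
  let T := (ModSite.tensorBi O).flip.obj F
  haveI : PreservesFiniteLimits L := inferInstanceAs
    (PreservesFiniteLimits (PresheafOfModules.sheafification.{u} (𝟙 (ModSite.ringSh O).obj)))
  haveI : Mono (L.map φ) := L.map_mono φ
  haveI : Mono (T.map (L.map φ)) := T.map_mono _
  let b := MonoidalCategory.whiskerRight (C := ModSiteExt.PM O.obj) φ F₀
  let uP := L.map (MonoidalCategory.whiskerRight (C := ModSiteExt.PM O.obj) (ModSiteTensor.η O P) F₀)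
  let uQ := L.map (MonoidalCategory.whiskerRight (C := ModSiteExt.PM O.obj) (ModSiteTensor.η O Q) F₀)
  haveI : IsIso uP := @ModSiteTensor.isIso_sheafify_map_whiskerRight _ _ _ _ _ _ (ModSiteTensor.η O P)
    (ModSiteTensor.unit_locallyInjective O P) (ModSiteTensor.unit_locallySurjective O P) F₀
  haveI : IsIso uQ := @ModSiteTensor.isIso_sheafify_map_whiskerRight _ _ _ _ _ _ (ModSiteTensor.η O Q)
    (ModSiteTensor.unit_locallyInjective O Q) (ModSiteTensor.unit_locallySurjective O Q) F₀
  have hnat : uP ≫ T.map (L.map φ) = L.map b ≫ uQ := by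
    refine (L.map_comp _ _).symm.trans (Eq.trans ?_ (L.map_comp _ _))
    refine congrArg _ (((MonoidalCategory.comp_whiskerRight (C := ModSiteExt.PM O.obj) _ _ _).symm.trans ?_).trans
      (MonoidalCategory.comp_whiskerRight (C := ModSiteExt.PM O.obj) _ _ _))
    exact congrArg (fun z => MonoidalCategory.whiskerRight (C := ModSiteExt.PM O.obj) z F₀)
      ((PresheafOfModules.sheafificationAdjunction.{u} (R := ModSite.ringSh O)
        (𝟙 (ModSite.ringSh O).obj)).unit.naturality φ).symm
  haveI : Mono (L.map b) := by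
    have : L.map b = uP ≫ T.map (L.map φ) ≫ inv uQ := by rw [reassoc_of% hnat, IsIso.hom_inv_id, comp_id]
    rw [this]
    infer_instance
  haveI : Mono ((SheafOfModules.toSheaf.{u} (ModSite.ringSh O)).map (L.map b)) := inferInstance
  have hb : Mono ((presheafToSheaf J AddCommGrpCat.{u}).map ((PresheafOfModules.toPresheaf _).map b)) := this
  rw [← Presheaf.isLocallyInjective_presheafToSheaf_map_iff, Sheaf.isLocallyInjective_iff_injective]
  intro X
  haveI : Mono ((sheafToPresheaf J AddCommGrpCat.{u}).map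
      ((presheafToSheaf J AddCommGrpCat.{u}).map ((PresheafOfModules.toPresheaf _).map b))) := inferInstance
  exact (AddCommGrpCat.mono_iff_injective _).mp
    (inferInstanceAs (Mono (((sheafToPresheaf J AddCommGrpCat.{u}).map
      ((presheafToSheaf J AddCommGrpCat.{u}).map ((PresheafOfModules.toPresheaf _).map b))).app X)))

section Forward

variable {n : ℕ} {U : C} (f : Fin n → O.obj.obj (op U))

/-- the ideal generated by restrictions of `f` -/
def ideal (V : (Over U)ᵒᵖ) : Submodule (O.obj.obj (op V.unop.left) : Type u) (O.obj.obj (op V.unop.left)) :=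
  Submodule.span _ (Set.range fun j => (O.obj.map V.unop.hom.op).hom (f j))

/-- inclusion of the ideal presheaf into the structure sheaf on the slice -/
lemma ideal_map {V W : (Over U)ᵒᵖ} (a : V ⟶ W) (x : O.obj.obj (op V.unop.left)) (hx : x ∈ ideal f V) :
    (O.obj.map a.unop.left.op).hom x ∈ ideal f W := by
  induction hx using Submodule.span_induction with
  | mem y hy =>
    obtain ⟨j, rfl⟩ := hy
    refine Submodule.subset_span ⟨j, ?_⟩
    refine Eq.trans ?_ (ConcreteCategory.congr_hom (O.obj.map_comp V.unop.hom.op a.unop.left.op) (f j))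
    rw [← op_comp, Over.w]
  | zero => rw [map_zero]; exact zero_mem _
  | add y z _ _ hy hz => rw [map_add]; exact add_mem hy hz
  | smul r y _ hy =>
    change (O.obj.map a.unop.left.op).hom (r * y) ∈ _
    rw [map_mul]
    exact Submodule.smul_mem _ _ hy

/-- the presheaf of abelian groups of the ideal -/
noncomputable def idealPresheaf : (Over U)ᵒᵖ ⥤ AddCommGrpCat.{u} where
  obj V := AddCommGrpCat.of (ideal f V)
  map {V W} a := AddCommGrpCat.ofHom
    { toFun := fun x => ⟨(O.obj.map a.unop.left.op).hom x.1, ideal_map f a _ x.2⟩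
      map_zero' := Subtype.ext (map_zero _)
      map_add' := fun x y => Subtype.ext (map_add _ _ _) }
  map_id V := by
    ext x
    exact ConcreteCategory.congr_hom (O.obj.map_id (op V.unop.left)) x.1
  map_comp {V W X} a b := by
    ext x
    exact ConcreteCategory.congr_hom (O.obj.map_comp a.unop.left.op b.unop.left.op) x.1

noncomputable instance (V : (Over U)ᵒᵖ) :
    Module (((O.over U).obj ⋙ forget₂ CommRingCat.{u} RingCat.{u}).obj V) ((idealPresheaf f).obj V) :=
  inferInstanceAs (Module (O.obj.obj (op V.unop.left) : Type u) (ideal f V))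

/-- the ideal as a presheaf of modules -/
noncomputable def idealPM : ModSiteExt.PM (O.over U).obj :=
  PresheafOfModules.ofPresheaf (idealPresheaf f) fun _ _ a r x => Subtype.ext
    (map_mul (O.obj.map a.unop.left.op).hom r x.1)

/-- the inclusion -/
noncomputable def idealι : idealPM f ⟶ PresheafOfModules.unit ((O.over U).obj ⋙ forget₂ CommRingCat.{u} RingCat.{u}) :=
  PresheafOfModules.homMk
    { app := fun V => AddCommGrpCat.ofHom (AddMonoidHom.mk' (fun x : ideal f V => x.1) fun _ _ => rfl)
      naturality := fun V W a => by ext x; rfl }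
    fun V r x => rfl

theorem hasLocalTriv_of_isFlat (hF : ModSite.IsFlat F) : HasLocalTriv O F := by
  intro U n f s hrel
  let F' := (ModSite.restr O U).obj F
  let F₀ := (ModSiteExt.toPM (O.over U)).obj F'
  haveI : Mono (idealι f) := PresheafOfModules.mono_of_injective fun V => Subtype.val_injective
  haveI := isLocallyInjective_whiskerRight_of_isFlat (ModSiteExt.isFlat_restr O U F hF) (idealι f)
  let T : (Over U)ᵒᵖ := op (Over.mk (𝟙 U))
  let A := (O.obj.obj (op U) : Type u)
  let gen : Fin n → ideal f T := fun j => ⟨f j, Submodule.subset_span ⟨j, by simp [T]⟩⟩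
  let z : (ideal f T) ⊗[A] (ModSite.sect F U) := ∑ j, gen j ⊗ₜ[A] s j
  let i : (ideal f T) →ₗ[A] A := (ideal f T).subtype
  have hz : (TensorProduct.map i LinearMap.id) z = (TensorProduct.map i LinearMap.id)
      (0 : (ideal f T) ⊗[A] (ModSite.sect F U)) := by
    rw [map_zero]
    apply (TensorProduct.lid A (ModSite.sect F U)).injective
    simp only [z, map_sum, map_zero, TensorProduct.map_tmul, TensorProduct.lid_tmul, LinearMap.id_apply]
    exact hrel
  have hcov := Presheaf.equalizerSieve_mem (J.over U)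
    ((PresheafOfModules.toPresheaf _).map
      (MonoidalCategory.whiskerRight (C := ModSiteExt.PM (O.over U).obj) (idealι f) F₀)) (X := T) z 0 hz
  refine ⟨Sieve.overEquiv _ (Presheaf.equalizerSieve (F := ((PresheafOfModules.toPresheaf _).obj
    (MonoidalCategory.tensorObj (C := ModSiteExt.PM (O.over U).obj) (idealPM f) F₀))) (X := T) z 0),
    hcov, fun V g hg => ?_⟩
  have hg' := (Sieve.overEquiv_iff _ _).mp hg
  let W : (Over U)ᵒᵖ := op (Over.mk (g ≫ 𝟙 U))
  let a : T ⟶ W := (Over.homMk g : Over.mk (g ≫ 𝟙 U) ⟶ Over.mk (𝟙 U)).op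
  let m := (MonoidalCategory.tensorObj (C := ModSiteExt.PM (O.over U).obj) (idealPM f) F₀).presheaf.map a
  have hm : m z = m (0 : (ideal f T) ⊗[A] (ModSite.sect F U)) := hg'
  let B := (O.obj.obj (op V) : Type u)
  let gen' : Fin n → ideal f W := fun j =>
    ⟨(O.obj.map g.op).hom (f j), Submodule.subset_span ⟨j, by simp [W]⟩⟩
  have hmz : ∑ j, gen' j ⊗ₜ[B] rmap F g (s j) = (0 : (ideal f W) ⊗[B] (ModSite.sect F V)) := by
    refine Eq.trans ?_ (hm.trans (map_zero m.hom))
    refine Eq.trans ?_ (map_sum m.hom _ _).symm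
    exact Finset.sum_congr rfl fun j _ => rfl
  have hspan : Submodule.span B (Set.range gen') = ⊤ := by
    apply Submodule.map_injective_of_injective (ideal f W).injective_subtype
    erw [Submodule.map_span, Submodule.map_subtype_top, ← Set.range_comp]
    change _ = Submodule.span _ _
    congr 1
    ext x
    simp [gen', W]
  obtain ⟨l, c, t, hct, hc⟩ := TensorProduct.vanishesTrivially_of_sum_tmul_eq_zero B hspan hmz
  refine ⟨l, t, c, hct, fun k => ?_⟩
  exact Eq.trans (by simp [gen']) ((congrArg Subtype.val (hc k)))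

end Forward

theorem isFlat_of_hasLocalTriv (hF : HasLocalTriv O F) : ModSite.IsFlat F := by
  refine (KFlat.flatObj_iff _ _).1 (KFlat.flatObj_of_mono
    (fun X => KFlat.exact_flip_of_rightExact (KFlat.braid _) (KFlat.preservesFiniteColimits_left _) X)
    _ fun M N φ hφ => ?_)
  haveI := hφ
  let φ₀ := (ModSiteExt.toPM O).map φ
  let F₀ := (ModSiteExt.toPM O).obj F
  let b := MonoidalCategory.whiskerRight (C := ModSiteExt.PM O.obj) φ₀ F₀
  have hφi : ∀ V, Function.Injective (φ₀.app V) := fun V => by
    haveI : PreservesFiniteLimits (ModSiteExt.toPM O) :=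
      inferInstanceAs (PreservesFiniteLimits (SheafOfModules.forget (ModSite.ringSh O)))
    haveI : Mono φ₀ := (ModSiteExt.toPM O).map_mono φ
    exact PresheafOfModules.injective_of_mono φ₀ V
  suffices hb : Presheaf.IsLocallyInjective J ((PresheafOfModules.toPresheaf _).map b) by
    rw [← Presheaf.isLocallyInjective_presheafToSheaf_map_iff] at hb
    haveI : Mono ((SheafOfModules.toSheaf.{u} (ModSite.ringSh O)).map ((ModSiteExt.Sh O).map b)) :=
      Sheaf.mono_of_isLocallyInjective ((presheafToSheaf J AddCommGrpCat.{u}).map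
        ((PresheafOfModules.toPresheaf _).map b))
    exact (SheafOfModules.toSheaf.{u} (ModSite.ringSh O)).mono_of_mono_map (f := (ModSiteExt.Sh O).map b) this
  constructor
  intro X z₁ z₂ hz
  obtain ⟨U⟩ := X
  let A := (O.obj.obj (op U) : Type u)
  let p : ModSite.sect M U →ₗ[A] ModSite.sect N U :=
    { toFun := (φ₀.app (op U)).hom
      map_add' := (φ₀.app (op U)).hom.map_add
      map_smul' := (φ₀.app (op U)).hom.map_smul }
  let z : (ModSite.sect M U) ⊗[A] (ModSite.sect F U) :=
    (show (ModSite.sect M U) ⊗[A] (ModSite.sect F U) from z₁) -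
      (show (ModSite.sect M U) ⊗[A] (ModSite.sect F U) from z₂)
  have hz0 : p.rTensor (ModSite.sect F U) z = 0 := (map_sub _ _ _).trans (sub_eq_zero.mpr hz)
  obtain ⟨n, m, s, hzs⟩ : ∃ (n : ℕ) (m : Fin n → ModSite.sect M U) (s : Fin n → ModSite.sect F U),
      z = ∑ i, m i ⊗ₜ[A] s i := TensorProduct.exists_sum_tmul_eq z
  -- present `N(U)` by the free module on its elements
  classical
  let G : ((ModSite.sect N U) →₀ A) →ₗ[A] ModSite.sect N U := Finsupp.linearCombination A id
  let z' : ((ModSite.sect N U) →₀ A) ⊗[A] (ModSite.sect F U) := ∑ i, Finsupp.single (p (m i)) 1 ⊗ₜ[A] s i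
  have hG : G.rTensor (ModSite.sect F U) z' = 0 := by
    refine Eq.trans ?_ hz0
    simp [z', hzs, G]
  have hGs : Function.Surjective G := fun x => ⟨Finsupp.single x 1, by simp [G]⟩
  let ι : LinearMap.ker G →ₗ[A] ((ModSite.sect N U) →₀ A) := (LinearMap.ker G).subtype
  have hex : Function.Exact ι G := LinearMap.exact_subtype_ker_map G
  obtain ⟨w, hw⟩ := (@rTensor_exact A (LinearMap.ker G) ((ModSite.sect N U) →₀ A) (ModSite.sect N U) _ _ _ _ _ _ _ ι G (ModSite.sect F U) _ _ hex hGs z').mp hG
  obtain ⟨q, k, y, hky⟩ : ∃ (q : ℕ) (k : Fin q → LinearMap.ker G) (y : Fin q → ModSite.sect F U),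
      w = ∑ e, k e ⊗ₜ[A] y e := TensorProduct.exists_sum_tmul_eq w
  -- relations in `F(U)`, one for each element of the finite supports
  let Y : Fin n ⊕ Fin q → ModSite.sect F U := Sum.elim s y
  let B : ModSite.sect N U → Fin n ⊕ Fin q → A :=
    fun x => Sum.elim (fun i => Finsupp.single (p (m i)) (1 : A) x) (fun e => -(k e).1 x)
  let T : Finset (ModSite.sect N U) :=
    (Finset.univ.image fun i => p (m i)) ∪ Finset.univ.biUnion fun e => (k e).1.support
  have hrel : ∀ x ∈ T, ∑ j, B x j • Y j = 0 := fun x _ => by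
    have hev := congrArg (fun v => TensorProduct.finsuppScalarLeft A (ModSite.sect F U) (ModSite.sect N U) v x) hw
    simp only [hky, z', map_sum, LinearMap.rTensor_tmul, Finsupp.finset_sum_apply,
      TensorProduct.finsuppScalarLeft_apply_tmul_apply, ι, Submodule.subtype_apply] at hev
    simp only [Fintype.sum_sum_type, B, Y, Sum.elim_inl, Sum.elim_inr, neg_smul, Finset.sum_neg_distrib]
    rw [add_neg_eq_zero]
    exact hev.symm
  obtain ⟨S, hS, hS'⟩ := exists_cover_solution hF Y T B hrel
  refine J.superset_covering (fun V g hg => ?_) hS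
  obtain ⟨r, t, c, ht, hc⟩ := hS' g hg
  let A' := (O.obj.obj (op V) : Type u)
  let mm : (ModSite.sect M U) ⊗[A] (ModSite.sect F U) →+ (ModSite.sect M V) ⊗[A'] (ModSite.sect F V) :=
    ((MonoidalCategory.tensorObj (C := ModSiteExt.PM O.obj) ((ModSiteExt.toPM O).obj M) F₀).presheaf.map g.op).hom
  have hmt : ∀ a b, mm (a ⊗ₜ[A] b) = rmap M g a ⊗ₜ[A'] rmap F g b := fun a b => rfl
  suffices h0 : mm z = 0 by
    exact sub_eq_zero.mp ((map_sub mm _ _).symm.trans h0)
  -- the coefficients annihilate the `m i`
  have hm0 : ∀ l, ∑ i, c (Sum.inl i) l • rmap M g (m i) = 0 := by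
    intro l
    apply hφi (op V)
    rw [map_sum, map_zero]
    have hnat : ∀ i, φ₀.app (op V) (rmap M g (m i)) = rmap N g (p (m i)) := fun i =>
      PresheafOfModules.naturality_apply φ₀ g.op (m i)
    have hN : ∀ e, ∑ x ∈ T, (O.obj.map g.op).hom ((k e).1 x) • rmap N g x = 0 := fun e => by
      have h : ∑ x ∈ T, (k e).1 x • x = 0 := by
        refine Eq.trans (Eq.symm ?_) (k e).2
        rw [Finsupp.linearCombination_apply, Finsupp.sum]
        exact Finset.sum_subset (fun x hx => Finset.mem_union_right _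
          (Finset.mem_biUnion.mpr ⟨e, Finset.mem_univ e, hx⟩)) fun x _ hx => by
            rw [Finsupp.notMem_support_iff.mp hx, zero_smul]
      have h' := congrArg (rmap N g) h
      rw [map_sum, map_zero] at h'
      exact (Finset.sum_congr rfl fun x _ => (rmap_smul N g _ _).symm).trans h'
    have hsum : ∑ x ∈ T, (∑ j, (O.obj.map g.op).hom (B x j) * c j l) • rmap N g x = 0 :=
      Finset.sum_eq_zero fun x hx => by rw [hc x hx l, zero_smul]
    simp only [Fintype.sum_sum_type, B, Sum.elim_inl, Sum.elim_inr, add_smul, Finset.sum_smul,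
      Finset.sum_add_distrib, map_neg, neg_mul, neg_smul, Finset.sum_neg_distrib] at hsum
    rw [Finset.sum_comm (s := T), Finset.sum_comm (s := T)] at hsum
    rw [Finset.sum_eq_zero (f := fun e => ∑ x ∈ T, ((O.obj.map g.op).hom ((k e).1 x) * c (Sum.inr e) l) •
      rmap N g x) (fun e _ => by
        refine Eq.trans (Finset.sum_congr rfl fun x _ => ?_) ((Finset.smul_sum
          (r := c (Sum.inr e) l) (f := fun x => (O.obj.map g.op).hom ((k e).1 x) • rmap N g x) (s := T)).symm.trans
            (by rw [hN e, smul_zero]))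
        rw [smul_smul, mul_comm]), neg_zero, add_zero] at hsum
    refine Eq.trans (Finset.sum_congr rfl fun i _ => ?_) hsum
    rw [Finset.sum_eq_single (p (m i)) (fun x _ hx => by simp [Finsupp.single_eq_of_ne hx])
      (fun h => absurd (Finset.mem_union_left _ (Finset.mem_image.mpr ⟨i, Finset.mem_univ i, rfl⟩)) h)]
    rw [Finsupp.single_eq_same, map_one, one_mul, ← hnat i]
    exact (φ₀.app (op V)).hom.map_smul _ _
  rw [hzs, map_sum]
  simp only [hmt]
  have hts : ∀ i, rmap F g (s i) = ∑ l, c (Sum.inl i) l • t l := fun i => ht (Sum.inl i)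
  simp only [hts, TensorProduct.tmul_sum, ← TensorProduct.smul_tmul]
  rw [Finset.sum_comm]
  exact Finset.sum_eq_zero fun l _ => by rw [← TensorProduct.sum_tmul, hm0 l, TensorProduct.zero_tmul]

theorem isFlat_iff_hasLocalTriv : ModSite.IsFlat F ↔ HasLocalTriv O F :=
  ⟨hasLocalTriv_of_isFlat, isFlat_of_hasLocalTriv⟩

end Groth.Agent.ModSiteFlat
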