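import Groth.Prelude.Def_ModSite2
import Groth.Agent.ModSiteFlat.Criterion
import Mathlib.CategoryTheory.Sites.Point.Conservative
import Mathlib.RingTheory.Flat.EquationalCriterion
import Mathlib.Topology.Sheaves.Points

/-!
Flatness and stalks at points of a site.
-/

set_option backward.isDefEq.respectTransparency false
set_option linter.style.haveILetI false
set_option autoImplicit false
set_option maxHeartbeats 1000000

universe u

open CategoryTheory Category Limits Opposite

namespace Groth.Agent.ModSiteFlat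

variable {C : Type u} [SmallCategory C] {J : GrothendieckTopology C} {O : Sheaf J CommRingCat.{u}}
  (p : GrothendieckTopology.Point.{u} J) (F : ModSite.Mod O)

attribute [local instance] instModuleSect

lemma germ_rmap {U V : C} (g : V ⟶ U) (y : p.fiber.obj V) (s : ModSite.sect F U) :
    ModSite.germ p F V y (rmap F g s) = ModSite.germ p F U (p.fiber.map g y) s :=
  p.toPresheafFiber_w_apply g y (ModSite.toAb F).obj s

lemma germRing_map {U V : C} (g : V ⟶ U) (y : p.fiber.obj V) (r : O.obj.obj (op U)) :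
    ModSite.germRing p (O := O) V y ((O.obj.map g.op).hom r) = ModSite.germRing p U (p.fiber.map g y) r :=
  p.toPresheafFiber_w_apply g y O.obj r

lemma germ_add (U : C) (x : p.fiber.obj U) (a b : ModSite.sect F U) :
    ModSite.germ p F U x (a + b) = ModSite.germ p F U x a + ModSite.germ p F U x b :=
  map_add (p.toPresheafFiber U x (ModSite.toAb F).obj).hom a b

/-- germs as an additive map -/
noncomputable def germHom (U : C) (x : p.fiber.obj U) : ModSite.sect F U →+ ModSite.stalkAb p F :=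
  AddMonoidHom.mk' (ModSite.germ p F U x) (germ_add p F U x)

lemma germ_sum_smul (U : C) (x : p.fiber.obj U) {κ : Type*} [Fintype κ] (a : κ → O.obj.obj (op U))
    (t : κ → ModSite.sect F U) :
    ModSite.germ p F U x (∑ k, a k • t k) =
      ∑ k, ModSite.germRing p U x (a k) • ModSite.germ p F U x (t k) :=
  (map_sum (germHom p F U x) _ _).trans (Finset.sum_congr rfl fun k _ => ModSite.germ_smul p F U x _ _)

/-- finitely many germs live over a common neighbourhood -/
lemma exists_common {ι : Type*} (T : Finset ι) (X : ι → C) (x : ∀ i, p.fiber.obj (X i)) :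
    ∃ (U : C) (w : p.fiber.obj U), ∀ i ∈ T, ∃ g : U ⟶ X i, p.fiber.map g w = x i := by
  classical
  haveI := p.isCofiltered
  induction T using Finset.induction with
  | empty =>
    obtain ⟨e⟩ := (IsCofiltered.nonempty : Nonempty p.fiber.Elements)
    exact ⟨e.1, e.2, fun i hi => absurd hi (by simp)⟩
  | insert a T ha ih =>
    obtain ⟨U, w, h⟩ := ih
    let e₁ := Functor.elementsMk p.fiber (X a) (x a)
    let e₂ := Functor.elementsMk p.fiber U w
    let gl := IsCofiltered.minToLeft e₁ e₂
    let gr := IsCofiltered.minToRight e₁ e₂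
    refine ⟨(IsCofiltered.min e₁ e₂).1, (IsCofiltered.min e₁ e₂).2, fun i hi => ?_⟩
    rcases Finset.mem_insert.mp hi with rfl | hi'
    · exact ⟨gl.1, gl.2⟩
    · obtain ⟨g, hg⟩ := h i hi'
      refine ⟨gr.1 ≫ g, ?_⟩
      rw [Functor.map_comp]
      exact (congrArg (p.fiber.map g) gr.2).trans hg

/-- finitely many germs of sections and functions lift to one neighbourhood -/
lemma exists_lift {ι κ : Type*} [Fintype ι] [Fintype κ] (m : ι → ModSite.stalkAb p F) (r : κ → ModSite.stalkRing p O) :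
    ∃ (U : C) (w : p.fiber.obj U) (s : ι → ModSite.sect F U) (f : κ → O.obj.obj (op U)),
      (∀ i, ModSite.germ p F U w (s i) = m i) ∧ ∀ k, ModSite.germRing p U w (f k) = r k := by
  choose X x s hs using fun i => p.toPresheafFiber_jointly_surjective (P := (ModSite.toAb F).obj) (m i)
  choose Y y f hf using fun k => p.toPresheafFiber_jointly_surjective (P := O.obj) (r k)
  obtain ⟨U, w, h⟩ := exists_common p (Finset.univ : Finset (ι ⊕ κ)) (Sum.elim X Y)
    (fun j => match j with
      | Sum.inl i => x i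
      | Sum.inr k => y k)
  choose g hg using fun j => h j (Finset.mem_univ j)
  refine ⟨U, w, fun i => rmap F (g (Sum.inl i)) (s i), fun k => (O.obj.map (g (Sum.inr k)).op).hom (f k),
    fun i => ?_, fun k => ?_⟩
  · exact ((germ_rmap p F _ w _).trans (congrArg (fun t => ModSite.germ p F (X i) t (s i)) (hg (Sum.inl i)))).trans
      (hs i)
  · exact ((germRing_map p _ w _).trans
      (congrArg (fun t => ModSite.germRing p (O := O) (Y k) t (f k)) (hg (Sum.inr k)))).trans (hf k)

/-- stalks of flat modules are flat -/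
theorem flat_stalk (hF : HasLocalTriv O F) : Module.Flat (ModSite.stalkRing p O) (ModSite.stalkMod p F) := by
  refine Module.Flat.of_forall_isTrivialRelation fun {n} {f} {x} h => ?_
  obtain ⟨U, w, s, r, hs, hr⟩ := exists_lift p F x f
  have h0 : ModSite.germ p F U w (∑ j, r j • s j) = ModSite.germ p F U w 0 := by
    rw [germ_sum_smul]
    refine Eq.trans ?_ ((map_zero (germHom p F U w)).symm)
    refine Eq.trans ?_ h
    exact Finset.sum_congr rfl fun j _ => by rw [hs, hr]
  obtain ⟨V, g, v, hv, hg⟩ := (p.toPresheafFiber_eq_iff' U w _ _).mp h0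
  have hrel : ∑ j, (O.obj.map g.op).hom (r j) • rmap F g (s j) = 0 :=
    (rmap_sum_smul F g r s).symm.trans (hg.trans (map_zero (rmap F g)))
  obtain ⟨S, hS, hloc⟩ := hF V n (fun j => (O.obj.map g.op).hom (r j)) (fun j => rmap F g (s j)) hrel
  obtain ⟨W, q, hq, z, hz⟩ := p.jointly_surjective S hS v
  obtain ⟨l, t, a, hat, ha⟩ := hloc q hq
  refine ⟨l, fun j k => ModSite.germRing p W z (a j k), fun k => ModSite.germ p F W z (t k), fun j => ?_,
    fun k => ?_⟩
  · refine ((hs j).symm.trans ?_).trans (germ_sum_smul p F W z (a j) t)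
    rw [← hat j]
    refine (Eq.trans ?_ (germ_rmap p F q z (rmap F g (s j))).symm)
    rw [hz]
    exact ((germ_rmap p F g v (s j)).trans (by rw [hv])).symm
  · have := congrArg (fun r => (p.toPresheafFiber W z O.obj).hom r) (ha k)
    simp only [map_sum, map_mul, map_zero] at this
    refine Eq.trans (Finset.sum_congr rfl fun j _ => ?_) this
    rw [mul_comm]
    congr 1
    rw [← hr j]
    refine (Eq.trans ?_ (germRing_map p (O := O) q z ((O.obj.map g.op).hom (r j))).symm)
    rw [hz]
    exact ((germRing_map p (O := O) g v (r j)).trans (by rw [hv])).symm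

/-- flatness is detected on a conservative family of points -/
theorem hasLocalTriv_of_flat_stalks {P : ObjectProperty (GrothendieckTopology.Point.{u} J)}
    (hP : P.IsConservativeFamilyOfPoints)
    (h : ∀ p : GrothendieckTopology.Point.{u} J, P p → Module.Flat (ModSite.stalkRing p O) (ModSite.stalkMod p F)) :
    HasLocalTriv O F := by
  intro U n f s hrel
  let Triv : ∀ ⦃V : C⦄, (V ⟶ U) → Prop := fun V g => ∃ (l : ℕ) (t : Fin l → ModSite.sect F V)
      (a : Fin n → Fin l → O.obj.obj (op V)),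
      (∀ j, (F.val.map g.op).hom (s j) = ∑ k, a j k • t k) ∧
        (∀ k, ∑ j, a j k * (O.obj.map g.op).hom (f j) = 0)
  let S : Sieve U :=
    { arrows := Triv
      downward_closed := by
        rintro V W g ⟨l, t, a, hat, ha⟩ q
        refine ⟨l, fun k => rmap F q (t k), fun j k => (O.obj.map q.op).hom (a j k), fun j => ?_, fun k => ?_⟩
        · refine (rmap_comp F g q (s j)).trans ?_
          exact (congrArg (rmap F q) (hat j)).trans (rmap_sum_smul F q _ _)
        · have := congrArg (O.obj.map q.op).hom (ha k)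
          simp only [map_sum, map_mul, map_zero] at this
          refine Eq.trans (Finset.sum_congr rfl fun j _ => ?_) this
          rw [op_comp, O.obj.map_comp]
          rfl }
  refine ⟨S, ?_, fun V g hg => hg⟩
  let ι := Σ V : C, {g : V ⟶ U // S g}
  refine J.superset_covering (S := Sieve.ofArrows (fun i : ι => i.1) (fun i => i.2.1)) ?_ ?_
  · rw [Sieve.generate_le_iff, Presieve.ofArrows_le_iff]
    exact fun i => i.2.2
  rw [hP.jointly_reflect_ofArrows_mem]
  intro Φ x
  let q := Φ.obj
  haveI := h q Φ.property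
  have hst : ∑ j, ModSite.germRing q U x (f j) • ModSite.germ q F U x (s j) = 0 := by
    rw [← germ_sum_smul, hrel]
    exact map_zero (germHom q F U x)
  obtain ⟨l, a, y, hay, ha⟩ := Module.Flat.isTrivialRelation_of_sum_smul_eq_zero
    (R := ModSite.stalkRing q O) (M := ModSite.stalkMod q F) hst
  obtain ⟨V₀, v₀, t₀, a₀, ht₀, ha₀⟩ := exists_lift q F y (fun jk : Fin n × Fin l => a jk.1 jk.2)
  obtain ⟨V₁, v₁, hV₁⟩ := exists_common q (Finset.univ : Finset Bool)
    (fun b => if b then U else V₀) (fun b => match b with | true => x | false => v₀)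
  obtain ⟨g₁, hg₁⟩ := hV₁ true (Finset.mem_univ _)
  obtain ⟨g₀, hg₀⟩ := hV₁ false (Finset.mem_univ _)
  change V₁ ⟶ U at g₁
  change V₁ ⟶ V₀ at g₀
  change q.fiber.map g₁ v₁ = x at hg₁
  change q.fiber.map g₀ v₁ = v₀ at hg₀
  let t₁ := fun k => rmap F g₀ (t₀ k)
  let a₁ := fun (j : Fin n) (k : Fin l) => (O.obj.map g₀.op).hom (a₀ (j, k))
  have eqs : ∀ j, ∃ (W : C) (g : W ⟶ V₁) (w : q.fiber.obj W), q.fiber.map g w = v₁ ∧
      rmap F g (rmap F g₁ (s j)) = rmap F g (∑ k, a₁ j k • t₁ k) := fun j => by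
    refine (q.toPresheafFiber_eq_iff' V₁ v₁ _ _).mp ?_
    change ModSite.germ q F V₁ v₁ (rmap F g₁ (s j)) = ModSite.germ q F V₁ v₁ (∑ k, a₁ j k • t₁ k)
    rw [germ_sum_smul, germ_rmap, hg₁]
    refine (hay j).trans (Finset.sum_congr rfl fun k _ => ?_)
    rw [germ_rmap, germRing_map, hg₀, ht₀, ha₀]
  have eqr : ∀ k, ∃ (W : C) (g : W ⟶ V₁) (w : q.fiber.obj W), q.fiber.map g w = v₁ ∧
      (O.obj.map g.op).hom (∑ j, a₁ j k * (O.obj.map g₁.op).hom (f j)) = (O.obj.map g.op).hom 0 := fun k => by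
    refine (q.toPresheafFiber_eq_iff' V₁ v₁ _ _).mp ?_
    refine ((map_sum (q.toPresheafFiber V₁ v₁ O.obj).hom _ _).trans ?_).trans
      (map_zero (q.toPresheafFiber V₁ v₁ O.obj).hom).symm
    refine Eq.trans (Finset.sum_congr rfl fun j _ => ?_) (ha k)
    rw [map_mul, mul_comm]
    congr 1
    · exact (germRing_map q (O := O) g₁ v₁ (f j)).trans (by rw [hg₁])
    · exact (germRing_map q (O := O) g₀ v₁ _).trans (by rw [hg₀]; exact ha₀ (j, k))
  choose W₁ q₁ w₁ hw₁ hq₁ using eqs
  choose W₂ q₂ w₂ hw₂ hq₂ using eqr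
  -- a common neighbourhood equalising all the maps to `V₁`
  haveI := q.isCofiltered
  classical
  let base := Functor.elementsMk q.fiber V₁ v₁
  let obs : Finset q.fiber.Elements := insert base
    ((Finset.univ.image fun j => Functor.elementsMk q.fiber (W₁ j) (w₁ j)) ∪
      (Finset.univ.image fun k => Functor.elementsMk q.fiber (W₂ k) (w₂ k)))
  let arr₁ : ∀ j, Functor.elementsMk q.fiber (W₁ j) (w₁ j) ⟶ base := fun j => ⟨q₁ j, hw₁ j⟩
  let arr₂ : ∀ k, Functor.elementsMk q.fiber (W₂ k) (w₂ k) ⟶ base := fun k => ⟨q₂ k, hw₂ k⟩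
  have hb : base ∈ obs := Finset.mem_insert_self _ _
  have h₁ : ∀ j, Functor.elementsMk q.fiber (W₁ j) (w₁ j) ∈ obs := fun j =>
    Finset.mem_insert_of_mem (Finset.mem_union_left _ (Finset.mem_image.mpr ⟨j, Finset.mem_univ _, rfl⟩))
  have h₂ : ∀ k, Functor.elementsMk q.fiber (W₂ k) (w₂ k) ∈ obs := fun k =>
    Finset.mem_insert_of_mem (Finset.mem_union_right _ (Finset.mem_image.mpr ⟨k, Finset.mem_univ _, rfl⟩))
  let Hs : Finset (Σ' (X Y : q.fiber.Elements) (_ : X ∈ obs) (_ : Y ∈ obs), X ⟶ Y) :=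
    (Finset.univ.image fun j => ⟨_, _, h₁ j, hb, arr₁ j⟩) ∪ (Finset.univ.image fun k => ⟨_, _, h₂ k, hb, arr₂ k⟩)
  obtain ⟨M, T, hT⟩ := IsCofiltered.inf_exists obs Hs
  let τ := T hb
  refine ⟨⟨M.1, τ.1 ≫ g₁, l, fun k => rmap F τ.1 (t₁ k), fun j k => (O.obj.map τ.1.op).hom (a₁ j k),
    fun j => ?_, fun k => ?_⟩, M.2, ?_⟩
  · refine (rmap_comp F g₁ τ.1 (s j)).trans ?_
    have hc : (T (h₁ j)).1 ≫ q₁ j = τ.1 := congrArg Subtype.val
      (hT (h₁ j) hb (Finset.mem_union_left _ (Finset.mem_image.mpr ⟨j, Finset.mem_univ _, rfl⟩)))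
    rw [← hc, rmap_comp, hq₁ j, ← rmap_comp, hc]
    exact rmap_sum_smul F τ.1 _ _
  · have hc : (T (h₂ k)).1 ≫ q₂ k = τ.1 := congrArg Subtype.val
      (hT (h₂ k) hb (Finset.mem_union_right _ (Finset.mem_image.mpr ⟨k, Finset.mem_univ _, rfl⟩)))
    have hmap : ∀ x, (O.obj.map τ.1.op).hom x = (O.obj.map (T (h₂ k)).1.op).hom ((O.obj.map (q₂ k).op).hom x) :=
      fun x => by rw [← hc, op_comp, O.obj.map_comp]; rfl
    have e := congrArg (O.obj.map (T (h₂ k)).1.op).hom (hq₂ k)
    rw [← hmap, map_zero, map_zero, map_sum] at e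
    refine Eq.trans (Finset.sum_congr rfl fun j _ => ?_) e
    rw [map_mul]
    congr 1
    exact ConcreteCategory.congr_hom (O.obj.map_comp g₁.op τ.1.op) (f j)
  · change q.fiber.map (τ.1 ≫ g₁) M.2 = x
    exact ((ConcreteCategory.congr_hom (q.fiber.map_comp τ.1 g₁) M.2).trans
      (congrArg (q.fiber.map g₁) τ.2)).trans hg₁

end Groth.Agent.ModSiteFlat
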